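import Groth.Agent.FieldCd.StrictLoc
import Groth.Agent.EtCdFun.Main
import Groth.Prelude.Def_EtGm
import Mathlib.Topology.KrullDimension

/-!
# Cohomological dimension of one-dimensional schemes
-/

set_option autoImplicit false
set_option linter.unusedSectionVars false
set_option linter.style.haveILetI false
set_option backward.isDefEq.respectTransparency false
set_option backward.isDefEq.respectTransparency.types false

universe u

open CategoryTheory CategoryTheory.Limits AlgebraicGeometry Opposite IsLocalRing Abelian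

noncomputable section

namespace Groth.Agent.FieldCd

open Groth.Agent.GalCd5

section order

theorem isClosed_of_specializes_of_dim_le_one {X : Scheme.{u}} (hdim : topologicalKrullDim X ≤ 1) {x y : X}
    (hxy : x ⤳ y) (hne : x ≠ y) : IsClosed ({y} : Set X) ∧ closure {x} ∈ irreducibleComponents (X : Type u) := by
  have key : ∀ a b c : X, a ⤳ b → a ≠ b → b ⤳ c → b ≠ c → False := by
    intro a b c hab h1 hbc h2
    have hd : Order.krullDim (TopologicalSpace.IrreducibleCloseds X) ≤ 1 := hdim
    let cl : X → TopologicalSpace.IrreducibleCloseds X := fun z =>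
      ⟨closure {z}, isIrreducible_singleton.closure, isClosed_closure⟩
    have hlt : ∀ z w : X, z ⤳ w → z ≠ w → cl w < cl z := fun z w h hn =>
      lt_of_le_of_ne (specializes_iff_closure_subset.1 h) fun e =>
        hn (inseparable_iff_closure_eq.2 (congrArg (fun t : TopologicalSpace.IrreducibleCloseds X => (t : Set X)) e).symm).eq
    let s : LTSeries (TopologicalSpace.IrreducibleCloseds X) :=
      ((RelSeries.singleton _ (cl c)).snoc (cl b) (hlt b c hbc h2)).snoc (cl a) (by simpa using hlt a b hab h1)
    have := (Order.LTSeries.length_le_krullDim s).trans hd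
    have h3 : s.length = 2 := rfl
    rw [h3] at this
    exact absurd this (by decide)
  constructor
  · refine closure_eq_iff_isClosed.1 (Set.Subset.antisymm (fun z hz => ?_) subset_closure)
    by_contra hzy
    exact key x y z hxy hne (specializes_iff_mem_closure.2 hz) fun e => hzy e.symm
  · refine ⟨isIrreducible_singleton.closure, fun t ht hle => ?_⟩
    obtain ⟨g, hg⟩ := QuasiSober.sober ht.closure isClosed_closure
    have hgx : g ⤳ x := hg.specializes (subset_closure (hle (subset_closure rfl)))
    by_cases hge : g = x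
    · subst hge
      exact (subset_closure).trans hg.def.ge
    · exact (key g x y hgx hge hxy hne).elim

end order

/-- vanishing for sheaves killed by `n` from that for powers of the prime factors -/
theorem subsingleton_H_of_killed {X : Scheme.{u}} {q : ℕ} : ∀ (n : ℕ), 0 < n →
    (∀ ℓ : ℕ, ℓ.Prime → ℓ ∣ n → ∀ F : EtCoh.Ab X, (ℓ ^ 1) • 𝟙 F = 0 → Subsingleton (EtCoh.H X F q)) →
    ∀ F : EtCoh.Ab X, n • 𝟙 F = 0 → Subsingleton (EtCoh.H X F q) := by
  intro n
  induction n using Nat.strong_induction_on with
  | _ n ih =>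
    intro hn h F hF
    rcases eq_or_ne n 1 with rfl | hn1
    · exact EtCdp5.subsingleton_H_of_isZero ((IsZero.iff_id_eq_zero F).2 (by simpa using hF)) q
    obtain ⟨ℓ, hℓ, r, rfl⟩ := Nat.exists_prime_and_dvd hn1
    have hr : 0 < r := Nat.pos_of_mul_pos_left hn
    let m : F ⟶ F := r • 𝟙 F
    let S := ShortComplex.mk (kernel.ι m) (cokernel.π (kernel.ι m)) (cokernel.condition _)
    have hS : S.ShortExact := { exact := ShortComplex.exact_of_g_is_cokernel _ (cokernelIsCokernel _) }
    refine subsingleton_H_of_shortExact hS q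
      (ih r (lt_mul_of_one_lt_left hr hℓ.one_lt) hr (fun ℓ' hℓ' hd => h ℓ' hℓ' (hd.mul_left ℓ)) _ ?_)
      (h ℓ hℓ (dvd_mul_right ℓ r) _ ?_)
    · rw [← cancel_mono (kernel.ι m), zero_comp, Preadditive.nsmul_comp, Category.id_comp]
      have := kernel.condition m
      rwa [Preadditive.comp_nsmul, Category.comp_id] at this
    · rw [pow_one, ← cancel_epi (cokernel.π (kernel.ι m)), comp_zero, Preadditive.comp_nsmul, Category.comp_id]
      have hl : (ℓ • 𝟙 F) ≫ m = 0 := by
        rw [Preadditive.comp_nsmul, Category.comp_id, smul_smul, mul_comm r ℓ, hF]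
      rw [show ℓ • cokernel.π (kernel.ι m) = (ℓ • 𝟙 F) ≫ cokernel.π (kernel.ι m) by
        rw [Preadditive.nsmul_comp, Category.id_comp], ← kernel.lift_ι m _ hl, Category.assoc, cokernel.condition,
        comp_zero]

theorem killed_mu (X : Scheme.{u}) (n : ℕ) : n • 𝟙 (EtCoh.mu X n) = 0 := by
  show n • 𝟙 (kernel (EtCoh.powMap X n)) = 0
  rw [← cancel_mono (kernel.ι (EtCoh.powMap X n)), zero_comp, Preadditive.nsmul_comp, Category.id_comp]
  have := kernel.condition (EtCoh.powMap X n)
  rw [EtCoh.powMap, Preadditive.comp_nsmul, Category.comp_id] at this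
  exact this

/-- `cd_ℓ ≤ 2` in dimension one -/
theorem cd_dim_one {X : Scheme.{u}} [IsNoetherian X] (hdim : topologicalKrullDim X ≤ 1) {ℓ : ℕ} (hℓ : ℓ.Prime)
    (hcd : ∀ x : X, closure {x} ∈ irreducibleComponents (X : Type u) → Dix.CohDimLEAt (Spec (X.residueField x)) ℓ 1)
    (hcl : ∀ x : X, IsClosed ({x} : Set X) → IsSepClosed (X.residueField x)) (F : EtCoh.Ab X)
    (hF : Dix.IsPrimaryTorsion ℓ F) (q : ℕ) (hq : 2 < q) : Subsingleton (EtCoh.H X F q) := by
  classical
  let φ : X → ℕ := fun x => if IsClosed ({x} : Set X) then 0 else 2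
  have hmax : ∀ x : X, ¬ IsClosed ({x} : Set X) → closure {x} ∈ irreducibleComponents (X : Type u) := by
    intro x hx
    obtain ⟨y, hy, hne⟩ : ∃ y, x ⤳ y ∧ x ≠ y := by
      by_contra hcon
      refine hx (closure_eq_iff_isClosed.1 (Set.Subset.antisymm (fun z hz => ?_) subset_closure))
      by_contra hzx
      exact hcon ⟨z, specializes_iff_mem_closure.2 hz, fun e => hzx e.symm⟩
    exact (isClosed_of_specializes_of_dim_le_one hdim hy hne).2
  refine EtCdFun.main ℓ hℓ φ (fun x => ?_) ?_ q F hF (fun x _ => ?_) q (fun x _ => ?_)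
  · by_cases hx : IsClosed ({x} : Set X)
    · rw [show φ x = 0 from if_pos hx]
      haveI := hcl x hx
      haveI : IsSepClosed (ResidueField (X.residueField x)) := EtCdFun.isSepClosed_of_equiv
        (RingEquiv.ofBijective (residue (X.residueField x)) ⟨RingHom.injective _, residue_surjective⟩)
      exact EtCdFun.cohDimLEAt_zero_of_sepClosed (X.residueField x) ℓ
    · rw [show φ x = 2 from if_neg hx]
      exact fun G hG q hq => hcd x (hmax x hx) G hG q (by omega)
  · intro x y hxy hne R _ _ _ _ _ P hP
    obtain ⟨hy, hx⟩ := isClosed_of_specializes_of_dim_le_one hdim hxy hne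
    have hxc : ¬ IsClosed ({x} : Set X) := fun h => hne ((hxy.mem_closed h rfl).symm)
    refine ⟨1, by simp [φ, hy, hxc], ?_⟩
    haveI : P.IsPrime := hP.1.1
    exact cohDimLEAt_of_vanAbove hℓ (vd_frac hxy R P hP (vanAbove_of_cohDimLEAt (hcd x hx)))
  all_goals
    show (if IsClosed ({x} : Set X) then 0 else 2) < q
    split_ifs <;> omega

end Groth.Agent.FieldCd
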