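import Groth.Agent.FieldCd.Step
import Mathlib.RingTheory.AlgebraicIndependent.TranscendenceBasis
import Mathlib.RingTheory.AlgebraicIndependent.Transcendental

/-!
# Cohomological dimension and transcendence degree
-/

set_option autoImplicit false
set_option linter.unusedSectionVars false
set_option linter.style.haveILetI false
set_option backward.isDefEq.respectTransparency false
set_option backward.isDefEq.respectTransparency.types false

universe u

open CategoryTheory CategoryTheory.Limits AlgebraicGeometry Opposite Cardinal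

noncomputable section

namespace Groth.Agent.FieldCd

/-- `cd_ℓ(L) ≤ cd_ℓ(K) + trdeg(L/K)` -/
theorem vd_of_trdeg {ℓ : ℕ} (hℓ : ℓ.Prime) : ∀ (n : ℕ) (K L : Type u) [Field K] [Field L] [Algebra K L] (e : ℕ),
    Algebra.trdeg K L ≤ n → Vd ℓ K e → Vd ℓ L (e + n) := by
  intro n
  induction n with
  | zero =>
    intro K L _ _ _ e hn h
    haveI : Algebra.IsAlgebraic K L := trdeg_eq_zero_iff.1 (le_antisymm (by simpa using hn) bot_le)
    exact vd_of_isAlgebraic h
  | succ n ih =>
    intro K L _ _ _ e hn h
    by_cases halg : Algebra.IsAlgebraic K L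
    · exact vd_mono (Nat.le_add_right e _) (vd_of_isAlgebraic h)
    obtain ⟨x, hx⟩ : ∃ x : L, Transcendental K x := by
      by_contra hc
      exact halg ⟨fun x => by_contra fun hx => hc ⟨x, hx⟩⟩
    have hind : AlgebraicIndependent K (fun _ : PUnit.{u + 1} => x) := algebraicIndependent_unique_type_iff.2 hx
    let ψ : MvPolynomial PUnit.{u + 1} K →ₐ[K] L := MvPolynomial.aeval fun _ => x
    have hψ : Function.Injective ψ := algebraicIndependent_iff_injective_aeval.1 hind
    let Ψ : RF K →ₐ[K] L := IsFractionRing.liftAlgHom hψ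
    letI : Algebra (RF K) L := Ψ.toRingHom.toAlgebra
    haveI : IsScalarTower K (RF K) L := .of_algebraMap_eq fun c => (Ψ.commutes c).symm
    have hX : AlgebraicIndependent K
        (fun _ : PUnit.{u + 1} => algebraMap (MvPolynomial PUnit.{u + 1} K) (RF K) (MvPolynomial.X PUnit.unit)) := by
      refine algebraicIndependent_iff_injective_aeval.2 ?_
      have he : (MvPolynomial.aeval fun _ : PUnit.{u + 1} =>
          algebraMap (MvPolynomial PUnit.{u + 1} K) (RF K) (MvPolynomial.X PUnit.unit)) =
          IsScalarTower.toAlgHom K (MvPolynomial PUnit.{u + 1} K) (RF K) :=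
        MvPolynomial.algHom_ext fun i => by
          rw [MvPolynomial.aeval_X]
          rfl
      rw [he]
      exact IsFractionRing.injective _ _
    have hsum : Algebra.trdeg K (RF K) + Algebra.trdeg (RF K) L = Algebra.trdeg K L := trdeg_add_eq K (RF K)
    have hone : (1 : Cardinal.{u}) ≤ Algebra.trdeg K (RF K) := by
      simpa using hX.cardinalMk_le_trdeg
    have hfin : Algebra.trdeg (RF K) L < ℵ₀ :=
      lt_of_le_of_lt ((self_le_add_left _ _).trans (hsum.le.trans hn)) natCast_lt_aleph0
    obtain ⟨m, hm⟩ := Cardinal.lt_aleph0.1 hfin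
    have hmn : m ≤ n := by
      have h1 : (1 : Cardinal.{u}) + m ≤ (n + 1 : ℕ) := by
        rw [← hm]
        exact (add_le_add hone le_rfl).trans (hsum.le.trans hn)
      have h2 : 1 + m ≤ n + 1 := by exact_mod_cast h1
      omega
    have := ih (RF K) L (e + 1) (by rw [hm]; exact_mod_cast hmn) (vd_RF hℓ K h)
    exact vd_mono (by omega) this

end Groth.Agent.FieldCd
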