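import Groth.Agent.GalCd5.Main
import Groth.Agent.S3884
import Groth.Agent.EtLim8.Coh
import Groth.Agent.CurveCd.TorsionField
import Groth.Prelude.Def_Dix
import Mathlib.FieldTheory.IntermediateField.Adjoin.Basic

/-!
# Cohomological dimension of algebraic extensions
-/

set_option autoImplicit false
set_option linter.unusedSectionVars false
set_option linter.style.haveILetI false
set_option backward.isDefEq.respectTransparency false
set_option backward.isDefEq.respectTransparency.types false

universe u

open CategoryTheory CategoryTheory.Limits AlgebraicGeometry Opposite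

noncomputable section

namespace Groth.Agent.FieldCd

open Groth.Agent.GalCd5

attribute [local instance] EtLim8.preservesFiniteLimits_pull

/-- the cohomology of sheaves killed by a power of `ℓ` on `Spec K` vanishes above `e` -/
def Vd (ℓ : ℕ) (K : Type u) [Field K] (e : ℕ) : Prop :=
  VanAbove (Spec (CommRingCat.of K)) ℓ e

theorem vd_mono {ℓ : ℕ} {K : Type u} [Field K] {e e' : ℕ} (h : e ≤ e') (hK : Vd ℓ K e) : Vd ℓ K e' :=
  fun F a hF q hq => hK F a hF q (lt_of_le_of_lt h hq)

theorem vanAbove_of_cohDimLEAt {X : Scheme.{u}} {ℓ e : ℕ} (h : Dix.CohDimLEAt X ℓ e) : VanAbove X ℓ e :=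
  fun F a hF q hq => h F (isLTorsion_of_killed ℓ a hF) q hq

theorem cohDimLEAt_of_vanAbove {X : Scheme.{u}} [CompactSpace X] [QuasiSeparatedSpace X] {ℓ e : ℕ}
    (hℓ : ℓ.Prime) (h : VanAbove X ℓ e) : Dix.CohDimLEAt X ℓ e :=
  fun F hF q hq => subsingleton_H_of_constructible hℓ q (fun C a _ hk => h C a hk q hq) F hF

variable (K L : Type u) [Field K] [Field L] [Algebra K L]

/-- the finitely generated subextensions -/
def sub : Finset L ⥤ CommRingCat.{u} where
  obj s := CommRingCat.of (IntermediateField.adjoin K (s : Set L))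
  map {s t} h := CommRingCat.ofHom
    (IntermediateField.inclusion (IntermediateField.adjoin.mono K (s : Set L) (t : Set L)
      (Finset.coe_subset.2 (leOfHom h)))).toRingHom

/-- the cocone of the inclusions -/
def subCocone : Cocone (sub K L) where
  pt := CommRingCat.of L
  ι := { app := fun s => CommRingCat.ofHom (IntermediateField.adjoin K (s : Set L)).val.toRingHom }

/-- a field is the colimit of its finitely generated subextensions -/
def subColimit : IsColimit (subCocone K L) := by
  classical
  haveI : ReflectsColimit (sub K L) (forget CommRingCat.{u}) := reflectsColimit_of_reflectsIsomorphisms _ _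
  refine isColimitOfReflects (forget CommRingCat.{u}) ?_
  refine Types.FilteredColimit.isColimitOf' _ _ (fun z => ?_) fun s x y h => ?_
  · exact ⟨{z}, ⟨z, IntermediateField.subset_adjoin K _ (Finset.mem_singleton_self z)⟩, rfl⟩
  · refine ⟨s, 𝟙 s, ?_⟩
    exact congrArg _ (Subtype.ext h)

variable {K L}

/-- algebraic extensions do not raise the cohomological dimension -/
theorem vd_of_isAlgebraic [Algebra.IsAlgebraic K L] {ℓ e : ℕ} (h : Vd ℓ K e) : Vd ℓ L e := by
  classical
  intro F a hF q hq
  let Xs : (Finset L)ᵒᵖ ⥤ Scheme.{u} := (sub K L).op ⋙ Scheme.Spec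
  have haff : ∀ ⦃i j : (Finset L)ᵒᵖ⦄ (f : i ⟶ j), IsAffineHom (Xs.map f) := fun i j f =>
    inferInstanceAs (IsAffineHom (Spec.map ((sub K L).map f.unop)))
  haveI : ∀ {i j : (Finset L)ᵒᵖ} (f : i ⟶ j), IsAffineHom (Xs.map f) := fun f => haff f
  let c : Cone Xs := Scheme.Spec.mapCone (subCocone K L).op
  have hc : IsLimit c := isLimitOfPreserves Scheme.Spec (subColimit K L).op
  haveI hcs : ∀ i, CompactSpace ↥(Xs.obj i) := fun i =>
    inferInstanceAs (CompactSpace (Spec ((sub K L).obj i.unop)))
  haveI hqs : ∀ i, QuasiSeparatedSpace ↥(Xs.obj i) := fun i =>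
    inferInstanceAs (QuasiSeparatedSpace (Spec ((sub K L).obj i.unop)))
  refine subsingleton_of_forall_eq 0 fun ξ => ?_
  obtain ⟨j, ξj, hj⟩ := (Groth.Agent.S3884.result Xs haff hcs hqs c hc F q).1 ξ
  haveI : (EtCoh.push (c.π.app (op j))).Additive :=
    (EtCoh.pullPushAdj (c.π.app (op j))).right_adjoint_additive
  let M := IntermediateField.adjoin K (j : Set L)
  haveI : FiniteDimensional K M :=
    IntermediateField.finiteDimensional_adjoin fun x _ => Algebra.IsIntegral.isIntegral x
  haveI : IsFinite (Spec.map (CommRingCat.ofHom (algebraMap K M))) :=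
    (IsFinite.SpecMap_iff _).2 (RingHom.finite_algebraMap.2 inferInstance)
  haveI : Subsingleton (EtCoh.H (Xs.obj (op j)) ((EtCoh.push (c.π.app (op j))).obj F) q) :=
    vanAbove_of_finite (Spec.map (CommRingCat.ofHom (algebraMap K M))) h _ a
      (killed_map (EtCoh.push (c.π.app (op j))) F _ hF) q hq
  rw [← hj, Subsingleton.elim ξj 0, map_zero]

theorem vd_of_ringEquiv (e' : K ≃+* L) {ℓ e : ℕ} (h : Vd ℓ K e) : Vd ℓ L e := by
  letI : Algebra K L := e'.toRingHom.toAlgebra
  haveI : Algebra.IsAlgebraic K L := ⟨fun y => by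
    obtain ⟨x, rfl⟩ := e'.surjective y
    exact isAlgebraic_algebraMap x⟩
  exact vd_of_isAlgebraic h

end Groth.Agent.FieldCd
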