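import Groth.Agent.FieldCd.Algebraic
import Groth.Agent.CurveCd.FieldKummer
import Groth.Agent.S0642
import Groth.Agent.S0214
import Mathlib.FieldTheory.PurelyInseparable.PerfectClosure
import Mathlib.FieldTheory.IsAlgClosed.AlgebraicClosure
import Mathlib.FieldTheory.AlgebraicClosure
import Mathlib.AlgebraicGeometry.Morphisms.UniversallyInjective
import Mathlib.AlgebraicGeometry.Morphisms.Integral

/-!
# Fields of transcendence degree at most one over separably closed fields
-/

set_option autoImplicit false
set_option linter.unusedSectionVars false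
set_option linter.style.haveILetI false
set_option backward.isDefEq.respectTransparency false
set_option backward.isDefEq.respectTransparency.types false

universe u

open CategoryTheory CategoryTheory.Limits AlgebraicGeometry Opposite

noncomputable section

namespace Groth.Agent.FieldCd

open Groth.Agent.GalCd5

attribute [local instance] EtLim8.preservesFiniteLimits_pull

/-- purely inseparable extensions have at least the cohomological dimension of the base -/
theorem vd_of_isPurelyInseparable {M N : Type u} [Field M] [Field N] [Algebra M N] [IsPurelyInseparable M N]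
    {ℓ e : ℕ} (h : Vd ℓ N e) : Vd ℓ M e := by
  intro F a hF q hq
  let i := Spec.map (CommRingCat.ofHom (algebraMap M N))
  haveI : UniversallyInjective i := by
    refine ((tfae_universallyInjective _).out 0 1).2 fun L hL g₁ g₂ hg => ?_
    obtain ⟨a, rfl⟩ := Spec.map_surjective g₁
    obtain ⟨b, rfl⟩ := Spec.map_surjective g₂
    have hg' : CommRingCat.ofHom (algebraMap M N) ≫ a = CommRingCat.ofHom (algebraMap M N) ≫ b :=
      Spec.map_injective (by rw [Spec.map_comp, Spec.map_comp]; exact hg)
    congr 1
    ext1
    letI := hL
    exact IsPurelyInseparable.injective_comp_algebraMap M N L congr($(hg').hom)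
  haveI : IsIntegralHom i := (IsIntegralHom.SpecMap_iff).2 (algebraMap_isIntegral_iff.2 inferInstance)
  haveI : Surjective i := ⟨fun x => ⟨default, Subsingleton.elim (α := Spec (CommRingCat.of M)) _ _⟩⟩
  haveI := (EtCoh.pullPushAdj i).left_adjoint_additive
  haveI := h _ a (killed_map (EtCoh.pull i) F _ hF) q hq
  exact (Groth.Agent.S0642.result i F q).1.subsingleton

theorem vanAbove_of_torsion {X : Scheme.{u}} {ℓ e : ℕ} (hℓ : ℓ.Prime) (h : EtCoh.CohDimLE X e) : VanAbove X ℓ e :=
  fun F a hF q hq => h F (isTorsion_of_isLTorsion hℓ (isLTorsion_of_killed ℓ a hF)) q hq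

/-- Tsen: a field of transcendence degree at most one over a separably closed field has `cd ≤ 1` -/
theorem vd_one (k M : Type u) [Field k] [IsSepClosed k] [Field M] [Algebra k M] (x : M)
    [Algebra.IsAlgebraic (IntermediateField.adjoin k ({x} : Set M)) M] {ℓ : ℕ} (hℓ : ℓ.Prime) : Vd ℓ M 1 := by
  classical
  let Mb := AlgebraicClosure M
  let N := perfectClosure M Mb
  suffices hN : Vd ℓ N 1 from vd_of_isPurelyInseparable hN
  let kb := algebraicClosure k Mb
  haveI : IsAlgClosed kb := IsAlgClosure.isAlgClosed k
  haveI : IsPurelyInseparable k kb := inferInstance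
  have hmem : ∀ z : kb, (z : Mb) ∈ N := fun z => by
    obtain ⟨n, c, hc⟩ := IsPurelyInseparable.pow_mem k (ringExpChar k) z
    haveI : ExpChar M (ringExpChar k) := expChar_of_injective_algebraMap (algebraMap k M).injective (ringExpChar k)
    refine (mem_perfectClosure_iff_pow_mem (ringExpChar k)).2 ⟨n, algebraMap k M c, ?_⟩
    rw [← IsScalarTower.algebraMap_apply]
    exact (congrArg Subtype.val hc :)
  let φ : kb →+* N := ((algebraMap kb Mb).codRestrict N.toSubfield hmem)
  letI : Algebra kb N := φ.toAlgebra
  haveI : IsScalarTower k kb N := .of_algebraMap_eq fun _ => rfl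
  let x' : N := algebraMap M N x
  let F' := IntermediateField.adjoin kb ({x'} : Set N)
  haveI halg : Algebra.IsAlgebraic F' N := by
    let F := IntermediateField.adjoin k ({x} : Set M)
    have hle : ∀ z : F, algebraMap M N z.1 ∈ F' := by
      intro z
      have h : F.map (IsScalarTower.toAlgHom k M N) ≤ F'.restrictScalars k := by
        rw [IntermediateField.adjoin_map, Set.image_singleton, IntermediateField.adjoin_le_iff,
          Set.singleton_subset_iff]
        exact IntermediateField.subset_adjoin kb _ (Set.mem_singleton x')
      exact h ⟨z.1, z.2, rfl⟩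
    let ψ : F →+* F' := ((algebraMap M N).comp F.val.toRingHom).codRestrict F'.toSubfield hle
    letI : Algebra F F' := ψ.toAlgebra
    haveI : IsScalarTower F F' N := .of_algebraMap_eq fun _ => rfl
    haveI : Algebra.IsAlgebraic F N := Algebra.IsAlgebraic.trans F M N
    exact ⟨fun y => (((Algebra.IsAlgebraic.isAlgebraic (R := F) y).isIntegral).tower_top (A := F')).isAlgebraic⟩
  have hC : Curves.IsCi F' 1 := by
    have h := TsenLib.isCi_adjoin (TsenLib.isCi_zero (k := kb)) ({x'} : Finset N)
    rw [Finset.coe_singleton, Finset.card_singleton] at h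
    exact h
  have hN' : Curves.IsCi N 1 := TsenLib.isCi_of_isAlgebraic hC
  refine vanAbove_of_torsion hℓ fun G hG q hq => ?_
  refine CurveCd.subsingleton_H_torsion_of_brauer_trivial N (fun K' _ _ _ D _ _ _ _ => ?_) G hG q hq
  exact TsenLib.finrank_eq_one_of_isCr_one (TsenLib.isCr_one_of_isCi (TsenLib.isCi_of_finite hN'))

end Groth.Agent.FieldCd
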