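import Groth.Agent.FieldCd.Algebraic
import Groth.Agent.EtCdFun.Fibre
import Groth.Agent.Hensel.HenselizationDescent
import Groth.Agent.S0539
import Mathlib.RingTheory.Ideal.GoingDown
import Mathlib.RingTheory.IntegralClosure.IntegralRestrict

/-!
# The residue fields of the generic fibres of strict localizations are algebraic
-/

set_option autoImplicit false
set_option linter.unusedSectionVars false
set_option linter.style.haveILetI false
set_option backward.isDefEq.respectTransparency false
set_option backward.isDefEq.respectTransparency.types false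

universe u

open CategoryTheory CategoryTheory.Limits AlgebraicGeometry Opposite IsLocalRing
open scoped TensorProduct

noncomputable section

namespace Groth.Agent.FieldCd

variable {X : Scheme.{u}} {x y : X}

theorem exists_div_specMap (hxy : x ⤳ y) (z : X.residueField x) :
    ∃ a b : X.presheaf.stalk y, z = Cyc.specMap y x hxy a / Cyc.specMap y x hxy b := by
  obtain ⟨w, rfl⟩ := X.residue_surjective x z
  obtain ⟨U, hU, hyU, -⟩ := exists_isAffineOpen_mem_and_subset (U := (⊤ : X.Opens)) (x := y) trivial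
  have hxU : x ∈ U := hxy.mem_open U.2 hyU
  letI : Algebra Γ(X, U) (X.presheaf.stalk x) := TopCat.Presheaf.algebra_section_stalk X.presheaf ⟨x, hxU⟩
  haveI : IsLocalization.AtPrime (X.presheaf.stalk x) (hU.primeIdealOf ⟨x, hxU⟩).asIdeal :=
    hU.isLocalization_stalk ⟨x, hxU⟩
  obtain ⟨a, s, rfl⟩ := IsLocalization.exists_mk'_eq (hU.primeIdealOf ⟨x, hxU⟩).asIdeal.primeCompl w
  have hg : ∀ c, X.residue x (algebraMap Γ(X, U) (X.presheaf.stalk x) c) =
      Cyc.specMap y x hxy (X.presheaf.germ U y hyU c) := fun c => by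
    show _ = (X.presheaf.stalkSpecializes hxy ≫ X.residue x) _
    rw [CommRingCat.comp_apply, ← ConcreteCategory.comp_apply (X.presheaf.germ U y hyU),
      TopCat.Presheaf.germ_stalkSpecializes]
    rfl
  refine ⟨X.presheaf.germ U y hyU a, X.presheaf.germ U y hyU s.1, ?_⟩
  rw [← hg, ← hg, eq_div_iff ((IsLocalization.map_units (X.presheaf.stalk x) s).map (X.residue x).hom).ne_zero]
  exact (map_mul (X.residue x).hom _ _).symm.trans (congrArg _ (IsLocalization.mk'_spec _ _ _))

theorem isFractionRing_locQuot (hxy : x ⤳ y) : IsFractionRing (Cyc.LocQuot y x hxy) (X.residueField x) := by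
  haveI : FaithfulSMul (Cyc.LocQuot y x hxy) (X.residueField x) :=
    (faithfulSMul_iff_algebraMap_injective _ _).2 (RingHom.kerLift_injective (Cyc.specMap y x hxy))
  refine IsFractionRing.of_field _ _ fun z => ?_
  obtain ⟨a, b, hz⟩ := exists_div_specMap hxy z
  exact ⟨Ideal.Quotient.mk _ a, Ideal.Quotient.mk _ b, hz⟩

/-- minimal primes over the prime of `x` contract to it -/
theorem comap_eq_ker (hxy : x ⤳ y) (R : Type u) [CommRing R] [IsLocalRing R] [Algebra (X.presheaf.stalk y) R]
    [IsLocalHom (algebraMap (X.presheaf.stalk y) R)] [_root_.Hensel.IsStrictHenselization (X.presheaf.stalk y) R]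
    {P : Ideal R} (hP : P ∈ ((RingHom.ker (Cyc.specMap y x hxy)).map (algebraMap (X.presheaf.stalk y) R)).minimalPrimes) :
    P.comap (algebraMap (X.presheaf.stalk y) R) = RingHom.ker (Cyc.specMap y x hxy) := by
  haveI := Groth.Agent.S0539.result (X.presheaf.stalk y) R
  haveI : P.IsPrime := hP.1.1
  haveI : (RingHom.ker (Cyc.specMap y x hxy)).IsPrime := RingHom.ker_isPrime _
  have hle : RingHom.ker (Cyc.specMap y x hxy) ≤ P.comap (algebraMap (X.presheaf.stalk y) R) :=
    Ideal.map_le_iff_le_comap.1 hP.1.2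
  haveI : P.LiesOver (P.comap (algebraMap (X.presheaf.stalk y) R)) := ⟨rfl⟩
  obtain ⟨Q, hQle, hQ, hQo⟩ := P.exists_ideal_le_liesOver_of_le (p := RingHom.ker (Cyc.specMap y x hxy))
    (q := P.comap (algebraMap (X.presheaf.stalk y) R)) hle
  have hQc : Q.comap (algebraMap (X.presheaf.stalk y) R) = RingHom.ker (Cyc.specMap y x hxy) := hQo.over.symm
  have hPQ : P ≤ Q := hP.2 ⟨hQ, Ideal.map_le_iff_le_comap.2 hQc.ge⟩ hQle
  rwa [le_antisymm hPQ hQle]

/-- elements of a strict henselization are integral over a field through which it maps to a field -/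
theorem isIntegral_image {B R κ F : Type u} [CommRing B] [CommRing R] [Algebra B R] [Field κ] [Field F]
    {Ω : Type u} [Field Ω] [Algebra B Ω] (e : Hensel.Henz B Ω ≃ₐ[B] R) [Algebra B κ] [Algebra κ F] [Algebra B F]
    [IsScalarTower B κ F] (g : R →ₐ[B] F) (r : R) : IsIntegral κ (g r) := by
  obtain ⟨N, b, hb⟩ := Hensel.Henz.exists_ofB (e.symm r)
  haveI : Algebra.Etale B N.B := N.etale
  haveI : Algebra.Etale κ (κ ⊗[B] N.B) := inferInstance
  haveI : Module.Finite κ (κ ⊗[B] N.B) := Algebra.FormallyUnramified.finite_of_free κ (κ ⊗[B] N.B)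
  let ψ : (κ ⊗[B] N.B) →ₐ[κ] F :=
    Algebra.TensorProduct.lift (Algebra.ofId κ F) (g.comp (e.toAlgHom.comp (Hensel.Henz.ofB N))) fun _ _ => Commute.all _ _
  have hz : ψ (1 ⊗ₜ[B] b) = g r := by
    simp [ψ, hb]
  rw [← hz]
  exact (Algebra.IsIntegral.isIntegral (R := κ) ((1 : κ) ⊗ₜ[B] b)).map ψ

/-- the residue field at a minimal prime over the prime of `x` is algebraic over `κ(x)` -/
theorem exists_frac_algebraic (hxy : x ⤳ y) (R : Type u) [CommRing R] [IsLocalRing R] [Algebra (X.presheaf.stalk y) R]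
    [IsLocalHom (algebraMap (X.presheaf.stalk y) R)] [_root_.Hensel.IsStrictHenselization (X.presheaf.stalk y) R]
    (P : Ideal R) [P.IsPrime]
    (hP : P ∈ ((RingHom.ker (Cyc.specMap y x hxy)).map (algebraMap (X.presheaf.stalk y) R)).minimalPrimes) :
    ∃ j : X.residueField x →+* FractionRing (R ⧸ P),
      (∀ a, j (Cyc.specMap y x hxy a) =
        algebraMap (R ⧸ P) (FractionRing (R ⧸ P)) (Ideal.Quotient.mk P (algebraMap (X.presheaf.stalk y) R a))) ∧
      @Algebra.IsAlgebraic (X.residueField x) (FractionRing (R ⧸ P)) _ _ j.toAlgebra := by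
  haveI := isFractionRing_locQuot hxy
  let F := FractionRing (R ⧸ P)
  let f : X.presheaf.stalk y →+* F :=
    ((algebraMap (R ⧸ P) F).comp (Ideal.Quotient.mk P)).comp (algebraMap (X.presheaf.stalk y) R)
  have hker : RingHom.ker f = RingHom.ker (Cyc.specMap y x hxy) := by
    rw [← comap_eq_ker hxy R hP]
    ext a
    rw [RingHom.mem_ker, Ideal.mem_comap]
    show algebraMap (R ⧸ P) F (Ideal.Quotient.mk P (algebraMap (X.presheaf.stalk y) R a)) = 0 ↔ _
    exact IsFractionRing.to_map_eq_zero_iff.trans Ideal.Quotient.eq_zero_iff_mem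
  let f' : Cyc.LocQuot y x hxy →+* F := Ideal.Quotient.lift _ f fun a ha => by rwa [← RingHom.mem_ker, hker]
  have hinj : Function.Injective f' := by
    rw [RingHom.injective_iff_ker_eq_bot, eq_bot_iff]
    intro a ha
    obtain ⟨a, rfl⟩ := Ideal.Quotient.mk_surjective a
    exact Ideal.Quotient.eq_zero_iff_mem.2 (hker.le ha)
  let j : X.residueField x →+* F := IsFractionRing.lift hinj
  have hj : ∀ a, j (Cyc.specMap y x hxy a) = f a := fun a =>
    IsFractionRing.lift_algebraMap hinj (Ideal.Quotient.mk _ a)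
  refine ⟨j, hj, ?_⟩
  letI : Algebra (X.residueField x) F := j.toAlgebra
  letI : Algebra (X.presheaf.stalk y) (X.residueField x) := (Cyc.specMap y x hxy).toAlgebra
  haveI : IsScalarTower (X.presheaf.stalk y) (X.residueField x) F := .of_algebraMap_eq fun a => (hj a).symm
  obtain ⟨e⟩ := Hensel.exists_algEquiv_strictHenz (X.presheaf.stalk y) R
  let g : R →ₐ[X.presheaf.stalk y] F :=
    { (algebraMap (R ⧸ P) F).comp (Ideal.Quotient.mk P) with commutes' := fun _ => rfl }
  refine ⟨fun z => ?_⟩
  obtain ⟨a, b, -, rfl⟩ := IsFractionRing.div_surjective (A := R ⧸ P) z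
  obtain ⟨a, rfl⟩ := Ideal.Quotient.mk_surjective a
  obtain ⟨b, rfl⟩ := Ideal.Quotient.mk_surjective b
  rw [div_eq_mul_inv]
  exact ((isIntegral_image e g a).isAlgebraic).mul (isIntegral_image e g b).isAlgebraic.inv

/-- the residue fields of the generic fibres of strict localizations have no larger dimension -/
theorem vd_frac (hxy : x ⤳ y) (R : Type u) [CommRing R] [IsLocalRing R] [Algebra (X.presheaf.stalk y) R]
    [IsLocalHom (algebraMap (X.presheaf.stalk y) R)] [_root_.Hensel.IsStrictHenselization (X.presheaf.stalk y) R]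
    (P : Ideal R) [P.IsPrime]
    (hP : P ∈ ((RingHom.ker (Cyc.specMap y x hxy)).map (algebraMap (X.presheaf.stalk y) R)).minimalPrimes)
    {ℓ e : ℕ} (h : Vd ℓ (X.residueField x) e) : Vd ℓ (FractionRing (R ⧸ P)) e := by
  obtain ⟨j, -, halg⟩ := exists_frac_algebraic hxy R P hP
  letI : Algebra (X.residueField x) (FractionRing (R ⧸ P)) := j.toAlgebra
  haveI := halg
  exact vd_of_isAlgebraic h

end Groth.Agent.FieldCd
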