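import Groth.Agent.FieldCd.Trdeg
import Groth.Agent.FieldCd.StrictLoc
import Groth.Agent.EtCdFun.Main
import Groth.Agent.VarDim.Fibre
import Mathlib.FieldTheory.SeparableClosure
import Mathlib.RingTheory.Henselian

/-!
# Cohomological dimension of schemes of finite type over a field
-/

set_option autoImplicit false
set_option linter.unusedSectionVars false
set_option linter.style.haveILetI false
set_option backward.isDefEq.respectTransparency false
set_option backward.isDefEq.respectTransparency.types false

universe u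

open CategoryTheory CategoryTheory.Limits AlgebraicGeometry Opposite IsLocalRing Cardinal

noncomputable section

namespace Groth.Agent.FieldCd

/-- separable polynomials over a field mapping to a strictly henselian ring split over it -/
theorem mem_range_of_separable {K R E : Type u} [Field K] [CommRing R] [HenselianLocalRing R]
    [IsSepClosed (ResidueField R)] [Field E] (φ : K →+* R) (ψ : R →+* E) {q : Polynomial K} (hq : q.Monic)
    (hs : q.Separable) {z : E} (hz : (q.map (ψ.comp φ)).IsRoot z) : z ∈ Set.range ψ := by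
  classical
  let qb := q.map ((residue R).comp φ)
  have hsb : qb.Separable := hs.map
  have hspl : qb.Splits := IsSepClosed.splits_of_separable qb hsb
  have hlift : ∀ a ∈ qb.roots.toFinset, ∃ r : R, (q.map φ).IsRoot r ∧ residue R r = a := fun a ha => by
    rw [Multiset.mem_toFinset, Polynomial.mem_roots (hq.map _).ne_zero] at ha
    obtain ⟨a₀, rfl⟩ := residue_surjective a
    have h1 : (q.map φ).eval a₀ ∈ maximalIdeal R := by
      rw [← IsLocalRing.residue_eq_zero_iff, ← Polynomial.eval₂_hom, ← Polynomial.eval_map, Polynomial.map_map]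
      exact ha
    have h2 : IsUnit ((q.map φ).derivative.eval a₀) := by
      rw [← IsLocalRing.notMem_maximalIdeal, ← IsLocalRing.residue_eq_zero_iff, ← Polynomial.eval₂_hom,
        ← Polynomial.eval_map, ← Polynomial.derivative_map, Polynomial.map_map]
      exact hsb.eval₂_derivative_ne_zero (RingHom.id _) (by simpa [Polynomial.IsRoot] using ha)
    obtain ⟨r, hr, hra⟩ := HenselianLocalRing.is_henselian (q.map φ) (hq.map φ) a₀ h1 h2
    exact ⟨r, hr, sub_eq_zero.1 (by rw [← map_sub, IsLocalRing.residue_eq_zero_iff]; exact hra)⟩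
  choose r hr hra using hlift
  let S : Finset E := qb.roots.toFinset.attach.image fun a => ψ (r a.1 a.2)
  have hinj : Function.Injective fun a : qb.roots.toFinset => ψ (r a.1 a.2) := by
    intro a b hab
    by_contra hne
    have hu : IsUnit (r a.1 a.2 - r b.1 b.2) := by
      rw [← IsLocalRing.notMem_maximalIdeal, ← IsLocalRing.residue_eq_zero_iff, map_sub, hra, hra, sub_eq_zero]
      exact fun e => hne (Subtype.ext e)
    exact (hu.map ψ).ne_zero (by rw [map_sub]; exact sub_eq_zero.2 hab)
  have hcard : S.card = q.natDegree := by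
    rw [Finset.card_image_of_injective _ hinj, Finset.card_attach,
      Multiset.toFinset_card_of_nodup (Polynomial.nodup_roots hsb), ← hspl.natDegree_eq_card_roots,
      hq.natDegree_map]
  have hroot : z ∈ (q.map (ψ.comp φ)).roots.toFinset :=
    Multiset.mem_toFinset.2 ((Polynomial.mem_roots (hq.map _).ne_zero).2 hz)
  have hsub : S ⊆ (q.map (ψ.comp φ)).roots.toFinset := fun w hw => by
    obtain ⟨a, -, rfl⟩ := Finset.mem_image.1 hw
    refine Multiset.mem_toFinset.2 ((Polynomial.mem_roots (hq.map _).ne_zero).2 ?_)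
    rw [← Polynomial.map_map]
    exact (hr a.1 a.2).map
  have heq : S = (q.map (ψ.comp φ)).roots.toFinset := Finset.eq_of_subset_of_card_le hsub (by
    rw [hcard, ← hq.natDegree_map (ψ.comp φ)]
    exact (Multiset.toFinset_card_le _).trans (Polynomial.card_roots' _))
  rw [← heq] at hroot
  obtain ⟨a, -, rfl⟩ := Finset.mem_image.1 hroot
  exact ⟨_, rfl⟩

variable {k : Type u} [Field k] {X : Scheme.{u}} (f : X ⟶ Spec (CommRingCat.of k)) [LocallyOfFiniteType f]

theorem vd_residueField {ℓ : ℕ} (hℓ : ℓ.Prime) {e : ℕ} (he : Vd ℓ k e) (x : X) :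
    Vd ℓ (X.residueField x) (e + VarDim.deg f x) := by
  letI : Algebra k (X.residueField x) := (VarDim.resHom f x).toAlgebra
  exact vd_of_trdeg hℓ _ k (X.residueField x) e (VarDim.deg_eq_tdeg f x).ge he

/-- the generic fibres of strict localizations have dimension at most the drop of the transcendence degree -/
theorem vd_frac_trdeg {ℓ : ℕ} (hℓ : ℓ.Prime) {x y : X} (hxy : x ⤳ y) (R : Type u) [CommRing R] [IsLocalRing R]
    [Algebra (X.presheaf.stalk y) R] [IsLocalHom (algebraMap (X.presheaf.stalk y) R)]
    [_root_.Hensel.IsStrictHenselization (X.presheaf.stalk y) R] (P : Ideal R) [P.IsPrime]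
    (hP : P ∈ ((RingHom.ker (Cyc.specMap y x hxy)).map (algebraMap (X.presheaf.stalk y) R)).minimalPrimes) :
    Vd ℓ (FractionRing (R ⧸ P)) (VarDim.deg f x - VarDim.deg f y) := by
  classical
  haveI : HenselianLocalRing R := _root_.Hensel.IsStrictHenselization.henselian (R := X.presheaf.stalk y)
  haveI : IsSepClosed (ResidueField R) :=
    (_root_.Hensel.IsStrictHenselization.isSepClosure (R := X.presheaf.stalk y) (S := R)).sep_closed
  obtain ⟨j, hj, halg⟩ := exists_frac_algebraic hxy R P hP
  let F := FractionRing (R ⧸ P)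
  let kO : k →+* X.presheaf.stalk y := (X.presheaf.germ ⊤ y trivial).hom.comp (VarDim.baseMap f)
  have hsp : ∀ c, Cyc.specMap y x hxy (kO c) = VarDim.resHom f x c := fun c => by
    show (X.presheaf.stalkSpecializes hxy ≫ X.residue x) (X.presheaf.germ ⊤ y trivial (VarDim.baseMap f c)) = _
    rw [CommRingCat.comp_apply, ← ConcreteCategory.comp_apply (X.presheaf.germ ⊤ y trivial),
      TopCat.Presheaf.germ_stalkSpecializes]
    rfl
  letI : Algebra k (X.residueField y) := (VarDim.resHom f y).toAlgebra
  letI : Algebra k (X.presheaf.stalk y) := kO.toAlgebra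
  obtain ⟨s, hs⟩ := exists_isTranscendenceBasis k (X.residueField y)
  choose t ht using fun i : s => X.residue_surjective y i.1
  let A := MvPolynomial s k
  let ev : A →ₐ[k] X.presheaf.stalk y := MvPolynomial.aeval t
  have hev : ∀ a : A, a ≠ 0 → IsUnit (ev a) := fun a ha => by
    by_contra hna
    let ρ : X.presheaf.stalk y →ₐ[k] X.residueField y :=
      { (X.residue y).hom with commutes' := fun _ => rfl }
    have h0 : ρ (ev a) = 0 := (IsLocalRing.residue_eq_zero_iff _).2 hna
    have h1 : ρ.comp ev = MvPolynomial.aeval (fun i : s => (i : X.residueField y)) :=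
      MvPolynomial.algHom_ext fun i => by
        rw [AlgHom.comp_apply, MvPolynomial.aeval_X, MvPolynomial.aeval_X]
        exact ht i
    exact ha (algebraicIndependent_iff_injective_aeval.1 hs.1
      ((AlgHom.congr_fun h1.symm a).trans (h0.trans (map_zero _).symm)))
  let Kt := FractionRing A
  let ψ : Kt →+* X.presheaf.stalk y :=
    IsLocalization.lift (M := nonZeroDivisors A) (g := ev.toRingHom)
      fun a => hev a.1 (nonZeroDivisors.ne_zero a.2)
  let φR : Kt →+* R := (algebraMap (X.presheaf.stalk y) R).comp ψ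
  let Fb := AlgebraicClosure F
  let RF : R →+* Fb := (algebraMap F Fb).comp ((algebraMap (R ⧸ P) F).comp (Ideal.Quotient.mk P))
  letI : Algebra Kt Fb := (RF.comp φR).toAlgebra
  let K0 := separableClosure Kt Fb
  haveI : IsSepClosed K0 := (separableClosure.isSepClosure Kt Fb).sep_closed
  have hmem : ∀ z : K0, ∃ a : F, algebraMap F Fb a = z.1 := fun z => by
    have hz : IsSeparable Kt z.1 := mem_separableClosure_iff.1 z.2
    obtain ⟨r, hr⟩ := mem_range_of_separable φR RF (minpoly.monic hz.isIntegral) hz (z := z.1) (by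
      rw [Polynomial.IsRoot.def, Polynomial.eval_map]
      exact minpoly.aeval Kt z.1)
    exact ⟨_, hr⟩
  choose g hg using hmem
  have hι := (algebraMap F Fb).injective
  let i : K0 →+* F :=
    { toFun := g
      map_one' := hι (by rw [hg, map_one]; rfl)
      map_mul' := fun a b => hι (by rw [hg, map_mul, hg, hg]; rfl)
      map_zero' := hι (by rw [hg, map_zero]; rfl)
      map_add' := fun a b => hι (by rw [hg, map_add, hg, hg]; rfl) }
  letI : Algebra K0 F := i.toAlgebra
  letI : Algebra k (X.residueField x) := (VarDim.resHom f x).toAlgebra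
  letI : Algebra (X.residueField x) F := j.toAlgebra
  haveI : Algebra.IsAlgebraic (X.residueField x) F := halg
  letI : Algebra k F := (j.comp (VarDim.resHom f x)).toAlgebra
  haveI : IsScalarTower k (X.residueField x) F := .of_algebraMap_eq fun _ => rfl
  letI : Algebra k K0 := ((algebraMap Kt K0).comp (algebraMap k Kt)).toAlgebra
  haveI : IsScalarTower k Kt K0 := .of_algebraMap_eq fun _ => rfl
  haveI : IsScalarTower k K0 F := .of_algebraMap_eq fun c => hι (by
    show algebraMap F Fb (j (VarDim.resHom f x c)) = algebraMap F Fb (g _)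
    rw [hg, ← hsp, hj]
    show RF (algebraMap (X.presheaf.stalk y) R (kO c)) = RF (φR (algebraMap k Kt c))
    refine congrArg RF (congrArg (algebraMap (X.presheaf.stalk y) R) ?_)
    rw [IsScalarTower.algebraMap_apply k A Kt, show ψ (algebraMap A Kt (algebraMap k A c)) = ev (algebraMap k A c) from
      IsLocalization.lift_eq _ _, AlgHom.commutes]
    rfl)
  have hX : AlgebraicIndependent k (fun i : s => algebraMap A Kt (MvPolynomial.X i)) := by
    refine algebraicIndependent_iff_injective_aeval.2 ?_
    have he : (MvPolynomial.aeval fun i : s => algebraMap A Kt (MvPolynomial.X i)) =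
        IsScalarTower.toAlgHom k A Kt := MvPolynomial.algHom_ext fun i => by
      rw [MvPolynomial.aeval_X]
      rfl
    rw [he]
    exact IsFractionRing.injective _ _
  haveI : Algebra.IsAlgebraic Kt K0 := inferInstance
  have h1 : (VarDim.deg f y : Cardinal.{u}) ≤ Algebra.trdeg k Kt :=
    ((VarDim.deg_eq_tdeg f y).trans hs.cardinalMk_eq_trdeg.symm).le.trans hX.cardinalMk_le_trdeg
  have h2 : Algebra.trdeg k Kt + Algebra.trdeg Kt K0 = Algebra.trdeg k K0 := trdeg_add_eq k Kt
  rw [trdeg_eq_zero (R := Kt) (A := K0), add_zero] at h2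
  have h3 : Algebra.trdeg k K0 + Algebra.trdeg K0 F = Algebra.trdeg k F := trdeg_add_eq k K0
  have h4 : Algebra.trdeg k (X.residueField x) + Algebra.trdeg (X.residueField x) F = Algebra.trdeg k F :=
    trdeg_add_eq k (X.residueField x)
  rw [trdeg_eq_zero (R := X.residueField x), add_zero,
    show Algebra.trdeg k (X.residueField x) = (VarDim.deg f x : Cardinal.{u}) from (VarDim.deg_eq_tdeg f x).symm] at h4
  have h5 : Algebra.trdeg K0 F ≤ ((VarDim.deg f x - VarDim.deg f y : ℕ) : Cardinal.{u}) := by
    have hfin : Algebra.trdeg K0 F < ℵ₀ :=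
      lt_of_le_of_lt ((self_le_add_left _ _).trans (h3.trans h4.symm).le) natCast_lt_aleph0
    obtain ⟨c, hc⟩ := Cardinal.lt_aleph0.1 hfin
    have h6 : ((VarDim.deg f y : ℕ) : Cardinal.{u}) + c ≤ (VarDim.deg f x : ℕ) := by
      rw [← hc]
      exact (add_le_add (h1.trans h2.le) le_rfl).trans (h3.trans h4.symm).le
    have h7 : VarDim.deg f y + c ≤ VarDim.deg f x := by exact_mod_cast h6
    rw [hc]
    exact_mod_cast Nat.le_sub_of_add_le (by omega)
  haveI : IsSepClosed (ResidueField K0) := EtCdFun.isSepClosed_of_equiv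
    (RingEquiv.ofBijective (residue K0) ⟨RingHom.injective _, residue_surjective⟩)
  have h0 : Vd ℓ K0 0 := vanAbove_of_cohDimLEAt (EtCdFun.cohDimLEAt_zero_of_sepClosed K0 ℓ)
  have := vd_of_trdeg hℓ _ K0 F 0 h5 h0
  rwa [Nat.zero_add] at this

theorem deg_lt_of_specializes {x y : X} (hxy : x ⤳ y) (hne : x ≠ y) : VarDim.deg f y < VarDim.deg f x := by
  by_contra h
  exact hne (VarDim.eq_of_specializes_of_deg_le f hxy (not_lt.1 h))

/-- `cd_ℓ(X) ≤ cd_ℓ(k) + 2 max trdeg` -/
theorem cd_finite_type [QuasiCompact f] {ℓ : ℕ} (hℓ : ℓ.Prime) {e : ℕ} (he : Vd ℓ k e) {n : ℕ}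
    (hn : ∀ x : X, VarDim.deg f x ≤ n) : Dix.CohDimLEAt X ℓ (2 * n + e) := by
  haveI : IsLocallyNoetherian X := LocallyOfFiniteType.isLocallyNoetherian f
  haveI : CompactSpace X := QuasiCompact.compactSpace_of_compactSpace f
  haveI : IsNoetherian X := {}
  intro F hF q hq
  refine EtCdFun.main ℓ hℓ (fun x => e + 2 * VarDim.deg f x)
    (fun x => cohDimLEAt_of_vanAbove hℓ (vd_mono (by omega) (vd_residueField f hℓ he x))) ?_ q F hF
    (fun x _ => ?_) q (fun x _ => ?_)
  · intro x y hxy hne R _ _ _ _ _ P hP
    haveI : P.IsPrime := hP.1.1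
    have := deg_lt_of_specializes f hxy hne
    refine ⟨VarDim.deg f x - VarDim.deg f y, ?_, cohDimLEAt_of_vanAbove hℓ (vd_frac_trdeg f hℓ hxy R P hP)⟩
    show _ + 1 + (e + 2 * VarDim.deg f y) ≤ e + 2 * VarDim.deg f x
    omega
  all_goals
    have := hn x
    show e + 2 * VarDim.deg f x < q
    omega

theorem deg_le_of_dim {n : ℕ} (hn : topologicalKrullDim X ≤ n) (x : X) : VarDim.deg f x ≤ n := by
  rw [VarDim.topologicalKrullDim_eq_iSup_deg f] at hn
  exact_mod_cast (le_iSup (fun z : X => ((VarDim.deg f z : ℕ∞) : WithBot ℕ∞)) x).trans hn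

theorem exists_deg_bound [QuasiCompact f] : ∃ n : ℕ, ∀ x : X, VarDim.deg f x ≤ n := by
  haveI : CompactSpace X := QuasiCompact.compactSpace_of_compactSpace f
  rcases isEmpty_or_nonempty X with h | h
  · exact ⟨0, fun x => isEmptyElim x⟩
  obtain ⟨η, -, hle, -⟩ := VarDim.exists_deg_eq_topologicalKrullDim f
  exact ⟨_, hle⟩

end Groth.Agent.FieldCd
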