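import Mathlib.RingTheory.Algebraic.Integral
import Mathlib.FieldTheory.RatFunc.Basic

/-!
# The fibre of the generic point of the line
-/

universe u

open scoped TensorProduct

namespace Groth.Agent.FieldCd

attribute [local instance] FractionRing.liftAlgebra MvPolynomial.algebraMvPolynomial

theorem exists_tensor_fractionRing_equiv (K R : Type u) [Field K] [Field R] [Algebra K R]
    [Algebra.IsAlgebraic K R] :
    ∃ (_ : (R ⊗[K] FractionRing (MvPolynomial PUnit.{u + 1} K)) ≃+* FractionRing (MvPolynomial PUnit.{u + 1} R)),
      True :=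
  ⟨(Algebra.IsPushout.equiv K R (FractionRing (MvPolynomial PUnit.{u + 1} K))
    (FractionRing (MvPolynomial PUnit.{u + 1} R))).toRingEquiv, trivial⟩

end Groth.Agent.FieldCd
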