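import Groth.Agent.FieldCd.FiniteType
import Groth.Agent.WStrictLib.WEtaleCover
import Groth.Agent.WEtLib.Stalks
import Groth.Agent.S0754
import Groth.Agent.H9Transfer.TorsionSheaf
import Groth.Agent.CurveCd.TorsionField
import Groth.Agent.DimFormula.Stalk
import Groth.Agent.CDiv6.Factorial
import Mathlib.FieldTheory.IsAlgClosed.AlgebraicClosure

/-!
# The cohomological dimension of morphisms between schemes of finite type over a field
-/

set_option autoImplicit false
set_option linter.style.haveILetI false
set_option linter.unusedSectionVars false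
set_option backward.isDefEq.respectTransparency false
set_option backward.isDefEq.respectTransparency.types false

universe u

open CategoryTheory CategoryTheory.Limits AlgebraicGeometry IsLocalRing Cardinal

noncomputable section

namespace Groth.Agent.FieldCd

/-- residue extensions of weakly étale morphisms are algebraic -/
theorem isAlgebraic_residueFieldMap {X' X : Scheme.{u}} (p : X' ⟶ X) [WeaklyEtale p] (x' : X') :
    @Algebra.IsAlgebraic (X.residueField (p x')) (X'.residueField x') _ _ (p.residueFieldMap x').hom.toAlgebra := by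
  letI : Algebra (X.presheaf.stalk (p x')) (X'.presheaf.stalk x') := (p.stalkMap x').hom.toAlgebra
  haveI : Algebra.WeaklyEtale (X.presheaf.stalk (p x')) (X'.presheaf.stalk x') :=
    (WEtLib.weaklyEtale_iff_stalkMap p).1 ‹_› x'
  have h := WStrictLib.algebraicResidueExtensions_of_weaklyEtale (A := X.presheaf.stalk (p x'))
    (B := X'.presheaf.stalk x') (maximalIdeal (X'.presheaf.stalk x'))
  letI : Algebra (X.residueField (p x')) (X'.residueField x') := (p.residueFieldMap x').hom.toAlgebra
  refine ⟨fun z => ?_⟩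
  obtain ⟨b, rfl⟩ := X'.residue_surjective x' z
  have hb := Algebra.IsAlgebraic.isAlgebraic (R := X.presheaf.stalk (p x') ⧸ (maximalIdeal (X'.presheaf.stalk x')).comap
    (algebraMap (X.presheaf.stalk (p x')) (X'.presheaf.stalk x'))) (Ideal.Quotient.mk (maximalIdeal (X'.presheaf.stalk x')) b)
  haveI : IsLocalHom (algebraMap (X.presheaf.stalk (p x')) (X'.presheaf.stalk x')) :=
    inferInstanceAs (IsLocalHom (p.stalkMap x').hom)
  let φ : X.presheaf.stalk (p x') ⧸ (maximalIdeal (X'.presheaf.stalk x')).comap
      (algebraMap (X.presheaf.stalk (p x')) (X'.presheaf.stalk x')) →+* X.residueField (p x') :=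
    Ideal.Quotient.lift _ (X.residue (p x')).hom fun a ha =>
      (residue_eq_zero_iff a).2 (by rwa [IsLocalRing.maximalIdeal_comap] at ha)
  have hφ : Function.Injective φ := (RingHom.injective_iff_ker_eq_bot _).2 (eq_bot_iff.2 fun a ha => by
    obtain ⟨a, rfl⟩ := Ideal.Quotient.mk_surjective a
    refine Ideal.Quotient.eq_zero_iff_mem.2 ?_
    rw [IsLocalRing.maximalIdeal_comap]
    exact (residue_eq_zero_iff a).1 ha)
  let ψ : X'.presheaf.stalk x' ⧸ maximalIdeal (X'.presheaf.stalk x') →+* X'.residueField x' :=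
    Ideal.Quotient.lift _ (X'.residue x').hom fun a ha => (residue_eq_zero_iff a).2 ha
  refine hb.ringHom_of_comp_eq φ ψ hφ ?_
  refine RingHom.ext fun a => ?_
  obtain ⟨a, rfl⟩ := Ideal.Quotient.mk_surjective a
  exact ConcreteCategory.congr_hom (Scheme.residue_residueFieldMap p x') a

/-- weakly étale morphisms have no specializations in their fibres -/
theorem eq_of_specializes {X' X : Scheme.{u}} (p : X' ⟶ X) [WeaklyEtale p] {x' y' : X'} (h : x' ⤳ y')
    (he : p x' = p y') : x' = y' := by
  let A := X.presheaf.stalk (p y')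
  let B := X'.presheaf.stalk y'
  letI : Algebra A B := (p.stalkMap y').hom.toAlgebra
  haveI : Algebra.WeaklyEtale A B := (WEtLib.weaklyEtale_iff_stalkMap p).1 ‹_› y'
  let Q : PrimeSpectrum B := CDiv6.primeOf h
  have hQ : X'.fromSpecStalk y' Q = x' := CDiv6.fromSpecStalk_primeOf h
  have hc : Q.asIdeal.comap (algebraMap A B) = maximalIdeal A := by
    have h1 := DimFormula.fromSpecStalk_comm p y' Q
    rw [hQ] at h1
    exact congrArg PrimeSpectrum.asIdeal ((X.fromSpecStalk (p y')).isEmbedding.injective
      (h1.trans (he.trans Scheme.fromSpecStalk_closedPoint.symm)))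
  have halg := WStrictLib.algebraicResidueExtensions_of_weaklyEtale (A := A) (B := B) Q.asIdeal
  haveI : (Q.asIdeal.comap (algebraMap A B)).IsMaximal := hc ▸ IsLocalRing.maximalIdeal.isMaximal A
  have hQm : Q.asIdeal.IsMaximal := by
    refine Ideal.Quotient.maximal_of_isField _ ?_
    letI := Ideal.Quotient.field (Q.asIdeal.comap (algebraMap A B))
    exact isField_of_isIntegral_of_isField' (R := A ⧸ Q.asIdeal.comap (algebraMap A B))
      (Semifield.toIsField _)
  rw [← hQ, show Q = closedPoint B from PrimeSpectrum.ext (IsLocalRing.eq_maximalIdeal hQm)]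
  exact Scheme.fromSpecStalk_closedPoint

variable {K : Type u} [Field K]

theorem spec_resHom {X : Scheme.{u}} (a : X ⟶ Spec (CommRingCat.of K)) (x : X) :
    Spec.map (CommRingCat.ofHom (VarDim.resHom a x)) = X.fromSpecResidueField x ≫ a := by
  have h1 : CommRingCat.ofHom (VarDim.resHom a x) =
      ((Scheme.ΓSpecIso (CommRingCat.of K)).inv ≫ a.appTop) ≫ X.presheaf.germ ⊤ x trivial ≫ X.residue x := rfl
  rw [h1, Spec.map_comp, Spec.map_comp, Spec.map_comp, Category.assoc]
  show _ = (Spec.map (X.residue x) ≫ X.fromSpecStalk x) ≫ a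
  rw [Category.assoc, ← Scheme.fromSpecStalk_toSpecΓ_assoc, ← Scheme.toSpecΓ_naturality_assoc]
  simp [← Spec.map_comp]

/-- residue fields of the fibres of strict localizations -/
theorem vd_residueField_strictLoc {X Y : Scheme.{u}} (a : X ⟶ Spec (CommRingCat.of K)) [LocallyOfFiniteType a]
    (b : Y ⟶ Spec (CommRingCat.of K)) (f : X ⟶ Y) (w : f ≫ b = a) (y : Y) (R : Type u) [CommRing R] [IsLocalRing R]
    [Algebra (Y.presheaf.stalk y) R] [IsLocalHom (algebraMap (Y.presheaf.stalk y) R)]
    [_root_.Hensel.IsStrictHenselization (Y.presheaf.stalk y) R] {ℓ : ℕ} (hℓ : ℓ.Prime)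
    (x' : ↥(pullback (Hens2.specOf Y y R) f)) :
    Vd ℓ ((pullback (Hens2.specOf Y y R) f).residueField x')
      (VarDim.deg a (pullback.snd (Hens2.specOf Y y R) f x')) := by
  haveI : HenselianLocalRing R := _root_.Hensel.IsStrictHenselization.henselian (R := Y.presheaf.stalk y)
  haveI : IsSepClosed (ResidueField R) :=
    (_root_.Hensel.IsStrictHenselization.isSepClosure (R := Y.presheaf.stalk y) (S := R)).sep_closed
  haveI := Groth.Agent.S0754.result Y y R
  let h := Hens2.specOf Y y R
  let X' := pullback h f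
  let p := pullback.snd h f
  haveI : WeaklyEtale p := inferInstance
  let x := p x'
  let F := X'.residueField x'
  letI : Algebra (X.residueField x) F := (p.residueFieldMap x').hom.toAlgebra
  haveI : Algebra.IsAlgebraic (X.residueField x) F := isAlgebraic_residueFieldMap p x'
  letI : Algebra K (X.residueField x) := (VarDim.resHom a x).toAlgebra
  letI : Algebra K F := ((p.residueFieldMap x').hom.comp (VarDim.resHom a x)).toAlgebra
  haveI : IsScalarTower K (X.residueField x) F := .of_algebraMap_eq fun _ => rfl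
  let kR : K →+* R := (Spec.preimage (h ≫ b)).hom
  let ψ : R →+* F := (Spec.preimage (X'.fromSpecResidueField x' ≫ pullback.fst h f)).hom
  have hcomp : ψ.comp kR = algebraMap K F := by
    refine congrArg CommRingCat.Hom.hom (Spec.map_injective (a₁ := CommRingCat.ofHom (ψ.comp kR))
      (a₂ := CommRingCat.ofHom (algebraMap K F)) ?_)
    show Spec.map (Spec.preimage (h ≫ b) ≫ Spec.preimage (X'.fromSpecResidueField x' ≫ pullback.fst h f)) =
      Spec.map (CommRingCat.ofHom (VarDim.resHom a x) ≫ p.residueFieldMap x')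
    rw [Spec.map_comp, Spec.map_comp, Spec.map_preimage, Spec.map_preimage, spec_resHom,
      Scheme.Hom.SpecMap_residueFieldMap_fromSpecResidueField_assoc, Category.assoc, pullback.condition_assoc, w]
  let Fb := AlgebraicClosure F
  let K0 := separableClosure K Fb
  haveI : IsSepClosed K0 := (separableClosure.isSepClosure K Fb).sep_closed
  have hι := (algebraMap F Fb).injective
  have hmem : ∀ z : K0, ∃ c : F, algebraMap F Fb c = z.1 := fun z => by
    have hz : IsSeparable K z.1 := mem_separableClosure_iff.1 z.2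
    obtain ⟨r, hr⟩ := mem_range_of_separable kR ((algebraMap F Fb).comp ψ) (minpoly.monic hz.isIntegral) hz
      (z := z.1) (by
        rw [RingHom.comp_assoc, hcomp, ← IsScalarTower.algebraMap_eq K F Fb, Polynomial.IsRoot.def, Polynomial.eval_map]
        exact minpoly.aeval K z.1)
    exact ⟨_, hr⟩
  choose g hg using hmem
  let i : K0 →+* F :=
    { toFun := g
      map_one' := hι (by rw [hg, map_one]; rfl)
      map_mul' := fun a b => hι (by rw [hg, map_mul, hg, hg]; rfl)
      map_zero' := hι (by rw [hg, map_zero]; rfl)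
      map_add' := fun a b => hι (by rw [hg, map_add, hg, hg]; rfl) }
  letI : Algebra K0 F := i.toAlgebra
  haveI : IsScalarTower K K0 F := .of_algebraMap_eq fun c => hι (by
    show algebraMap F Fb (algebraMap K F c) = algebraMap F Fb (g _)
    rw [hg, ← IsScalarTower.algebraMap_apply K F Fb]
    rfl)
  have h1 : Algebra.trdeg K0 F ≤ (VarDim.deg a x : Cardinal.{u}) := by
    refine (self_le_add_left _ (Algebra.trdeg K K0)).trans ?_
    rw [trdeg_add_eq K K0, ← trdeg_add_eq K (X.residueField x), trdeg_eq_zero (R := X.residueField x), add_zero]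
    exact (VarDim.deg_eq_tdeg a x).ge
  haveI : IsSepClosed (ResidueField K0) := EtCdFun.isSepClosed_of_equiv
    (RingEquiv.ofBijective (residue K0) ⟨RingHom.injective _, residue_surjective⟩)
  have h0 : Vd ℓ K0 0 := vanAbove_of_cohDimLEAt (EtCdFun.cohDimLEAt_zero_of_sepClosed K0 ℓ)
  have := vd_of_trdeg hℓ _ K0 F 0 h1 h0
  rwa [Nat.zero_add] at this

attribute [local instance] EtFound.pull_preservesFiniteLimits

/-- higher direct images of torsion sheaves between schemes of finite type over a field vanish in large degrees -/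
theorem exists_relCohDimLE {X Y : Scheme.{u}} (a : X ⟶ Spec (CommRingCat.of K)) (b : Y ⟶ Spec (CommRingCat.of K))
    [LocallyOfFiniteType a] [QuasiCompact a] [LocallyOfFiniteType b] [QuasiCompact b]
    (f : X ⟶ Y) (w : f ≫ b = a) [EtCoh.BCCont f] : ∃ d : ℕ, EtCoh.RelCohDimLE f d := by
  obtain ⟨n, hn⟩ := exists_deg_bound a
  refine ⟨(n + 1) * n + n, fun F hF q hq => (EtFound.isZero_iff_stalks _).2 fun Ω _ _ ξ => ?_⟩
  subst w
  haveI : LocallyOfFiniteType f := locallyOfFiniteType_of_comp f b
  haveI : IsLocallyNoetherian Y := LocallyOfFiniteType.isLocallyNoetherian b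
  haveI : CompactSpace Y := QuasiCompact.compactSpace_of_compactSpace b
  haveI : IsLocallyNoetherian X := LocallyOfFiniteType.isLocallyNoetherian (f ≫ b)
  haveI : CompactSpace X := QuasiCompact.compactSpace_of_compactSpace (f ≫ b)
  haveI : IsNoetherian Y := {}
  haveI : IsNoetherian X := {}
  let y := ξ.base (default : Spec (CommRingCat.of Ω))
  obtain ⟨R, _, _, _, _, hR⟩ := BcQCalc.exists_strictHens (Y.presheaf.stalk y)
  haveI := hR
  haveI : HenselianLocalRing R := _root_.Hensel.IsStrictHenselization.henselian (R := Y.presheaf.stalk y)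
  haveI : IsSepClosed (ResidueField R) :=
    (_root_.Hensel.IsStrictHenselization.isSepClosure (R := Y.presheaf.stalk y) (S := R)).sep_closed
  haveI : IsNoetherianRing R := (Groth.Agent.S0540.result (Y.presheaf.stalk y) R).1 inferInstance
  haveI := Groth.Agent.S0754.result Y y R
  obtain ⟨D⟩ := RpushStalk.exists_model Y y R
  let h := Hens2.specOf Y y R
  refine EtCdp5.isZero_stalk_of_eq (EtFound.cpt R ≫ h) ξ ?_ ?_
  · rw [Scheme.Hom.comp_apply]
    exact (congrArg h (EtFound.cpt_base R _)).trans (LocAcycLib.specOf_closedPoint Y y R)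
  have hbij := BcQStalk5.bijective_chi (h := h) f D F q
  suffices hH : Subsingleton (EtCoh.H (pullback h f) ((EtCoh.pull (pullback.snd h f)).obj F) q) from
    @AddCommGrpCat.isZero_of_subsingleton _ (Function.Injective.subsingleton hbij.1)
  haveI : IsLocallyNoetherian (pullback h f) := LocallyOfFiniteType.isLocallyNoetherian (pullback.fst h f)
  haveI : CompactSpace ↥(pullback h f) := QuasiCompact.compactSpace_of_compactSpace (pullback.fst h f)
  haveI : IsNoetherian (pullback h f) := {}
  refine CurveCd.subsingleton_H_of_torsion q (fun ℓ hℓ G hG => ?_) _ (H9Transfer.isTorsion_pull _ F hF)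
  let p := pullback.snd h f
  have hφ : ∀ z : ↥(pullback h f), (n + 1) * VarDim.deg (f ≫ b) (p z) + n ≤ (n + 1) * n + n := fun z =>
    Nat.add_le_add_right (Nat.mul_le_mul_left _ (hn _)) _
  refine EtCdFun.main ℓ hℓ (fun z => (n + 1) * VarDim.deg (f ≫ b) (p z) + n)
    (fun z => cohDimLEAt_of_vanAbove hℓ (vd_mono ((hn _).trans (Nat.le_add_left _ _))
      (vd_residueField_strictLoc (f ≫ b) b f rfl y R hℓ z))) ?_ q G hG (fun z _ => ?_) q (fun z _ => ?_)
  · intro z z' hzz' hne S _ _ _ _ _ P hP
    haveI : P.IsPrime := hP.1.1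
    have hlt := deg_lt_of_specializes (f ≫ b) (hzz'.map p.continuous) fun e => hne (eq_of_specializes p hzz' e)
    refine ⟨n, ?_, cohDimLEAt_of_vanAbove hℓ (vd_frac hzz' S P hP (vd_mono (hn _)
      (vd_residueField_strictLoc (f ≫ b) b f rfl y R hℓ z)))⟩
    show n + 1 + ((n + 1) * VarDim.deg (f ≫ b) (p z') + n) ≤ (n + 1) * VarDim.deg (f ≫ b) (p z) + n
    have := Nat.mul_le_mul_left (n + 1) (Nat.succ_le_of_lt hlt)
    rw [Nat.mul_succ] at this
    omega
  all_goals exact lt_of_le_of_lt (hφ z) hq

end Groth.Agent.FieldCd
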