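import Groth.Agent.FieldCd.Tsen
import Groth.Agent.EtCdFun.Main
import Groth.Agent.EtCdp5.Leray
import Groth.Agent.FieldCd.Pushout
import Groth.Agent.S0538
import Mathlib.RingTheory.Algebraic.Integral
import Mathlib.FieldTheory.RatFunc.Basic

/-!
# The cohomological dimension of a purely transcendental extension
-/

set_option autoImplicit false
set_option linter.unusedSectionVars false
set_option linter.style.haveILetI false
set_option backward.isDefEq.respectTransparency false
set_option backward.isDefEq.respectTransparency.types false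

universe u

open CategoryTheory CategoryTheory.Limits AlgebraicGeometry Opposite IsLocalRing
open scoped TensorProduct

noncomputable section

namespace Groth.Agent.FieldCd

open Groth.Agent.GalCd5 Groth.Agent.EtFound RpushStalk

attribute [local instance] EtLim8.preservesFiniteLimits_pull

/-- the function field of the line -/
abbrev RF (K : Type u) [Field K] : Type u := FractionRing (MvPolynomial PUnit.{u + 1} K)

theorem adjoin_X_eq_top (K : Type u) [Field K] :
    IntermediateField.adjoin K ({algebraMap (MvPolynomial PUnit.{u + 1} K) (RF K) (MvPolynomial.X PUnit.unit)} :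
      Set (RF K)) = ⊤ := by
  refine eq_top_iff.2 fun z _ => ?_
  obtain ⟨a, b, -, rfl⟩ := IsFractionRing.div_surjective (A := MvPolynomial PUnit.{u + 1} K) z
  have h : ∀ p : MvPolynomial PUnit.{u + 1} K, algebraMap _ (RF K) p ∈ IntermediateField.adjoin K
      ({algebraMap (MvPolynomial PUnit.{u + 1} K) (RF K) (MvPolynomial.X PUnit.unit)} : Set (RF K)) := fun p => by
    induction p using MvPolynomial.induction_on with
    | C c =>
      rw [← MvPolynomial.algebraMap_eq, ← IsScalarTower.algebraMap_apply]
      exact IntermediateField.algebraMap_mem _ c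
    | add p q hp hq => rw [map_add]; exact add_mem hp hq
    | mul_X p n hp => rw [map_mul]; exact mul_mem hp (IntermediateField.subset_adjoin K _ (Set.mem_singleton _))
  exact div_mem (h a) (h b)

theorem vd_RF_of_isSepClosed (K : Type u) [Field K] [IsSepClosed K] {ℓ : ℕ} (hℓ : ℓ.Prime) : Vd ℓ (RF K) 1 := by
  haveI : Algebra.IsAlgebraic (IntermediateField.adjoin K
      ({algebraMap (MvPolynomial PUnit.{u + 1} K) (RF K) (MvPolynomial.X PUnit.unit)} : Set (RF K))) (RF K) := by
    rw [adjoin_X_eq_top]
    exact ⟨fun z => isAlgebraic_algebraMap (⟨z, trivial⟩ : (⊤ : IntermediateField K (RF K)))⟩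
  exact vd_one K (RF K) (algebraMap (MvPolynomial PUnit.{u + 1} K) (RF K) (MvPolynomial.X PUnit.unit)) hℓ

/-- the geometric fibre of a variable -/
theorem vanAbove_tensor_RF (K R : Type u) [Field K] [Field R] [Algebra K R] [Algebra.IsAlgebraic K R] [IsSepClosed R]
    {ℓ : ℕ} (hℓ : ℓ.Prime) : VanAbove (Spec (CommRingCat.of (R ⊗[K] RF K))) ℓ 1 := by
  obtain ⟨e, -⟩ := exists_tensor_fractionRing_equiv K R
  exact vanAbove_of_finite (Scheme.Spec.mapIso e.symm.toCommRingCatIso.op).hom (vd_RF_of_isSepClosed R hℓ)

/-- an extension whose geometric fibre has dimension at most one raises the cohomological dimension by at most one -/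
theorem vd_step {ℓ : ℕ} (K L : Type u) [Field K] [Field L] [Algebra K L]
    (hfib : ∀ (R : Type u) [Field R] [Algebra K R] [Algebra.IsAlgebraic K R] [IsSepClosed R],
      VanAbove (Spec (CommRingCat.of (R ⊗[K] L))) ℓ 1) {e : ℕ} (h : Vd ℓ K e) : Vd ℓ L (e + 1) := by
  intro G a hG N hN
  let π := Spec.map (CommRingCat.ofHom (algebraMap K L))
  let X := Spec (CommRingCat.of K)
  haveI : IsAffineHom π := inferInstance
  haveI : QuasiCompact π := inferInstance
  haveI : QuasiSeparated π := inferInstance
  haveI : (EtCoh.push π).Additive := (EtCoh.pullPushAdj π).right_adjoint_additive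
  refine EtCdp5.subsingleton_H_of_leray π N (by omega) G
    (h _ a (killed_map (EtCoh.push π) G _ hG) N (by omega)) fun i b hb hib => ?_
  haveI : (EtCoh.Rpush π b).Additive := inferInstanceAs ((EtCoh.push π).rightDerived b).Additive
  by_cases hb1 : b = 1
  · exact h _ a (killed_map (EtCoh.Rpush π b) G _ hG) i (by omega)
  refine EtCdp5.subsingleton_H_of_isZero ((isZero_iff_stalks _).2 fun Ω _ _ ξ => ?_) i
  generalize hy : ξ.base (default : Spec (CommRingCat.of Ω)) = y
  obtain ⟨R, _, _, _, _, hR⟩ := BcQCalc.exists_strictHens (X.presheaf.stalk y)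
  haveI := hR
  haveI : HenselianLocalRing R := _root_.Hensel.IsStrictHenselization.henselian (R := X.presheaf.stalk y)
  haveI : IsSepClosed (ResidueField R) :=
    (_root_.Hensel.IsStrictHenselization.isSepClosure (R := X.presheaf.stalk y) (S := R)).sep_closed
  obtain ⟨D⟩ := RpushStalk.exists_model X y R
  let st : CommRingCat.of K ⟶ X.presheaf.stalk y := StructureSheaf.toStalk (CommRingCat.of K) y
  letI : Algebra K (X.presheaf.stalk y) := StructureSheaf.stalkAlgebra K y
  haveI : IsLocalization.AtPrime (X.presheaf.stalk y) y.asIdeal := StructureSheaf.IsLocalization.to_stalk K y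
  have hKO : Function.Bijective (algebraMap K (X.presheaf.stalk y)) :=
    (IsLocalization.atUnits K y.asIdeal.primeCompl (S := X.presheaf.stalk y) fun z hz =>
      isUnit_iff_ne_zero.2 fun h0 => hz (by rw [h0]; exact y.asIdeal.zero_mem)).bijective
  have hmO : maximalIdeal (X.presheaf.stalk y) = ⊥ := by
    refine le_bot_iff.1 fun z hz => ?_
    obtain ⟨c, rfl⟩ := hKO.2 z
    by_contra h0
    exact hz ((isUnit_iff_ne_zero.2 fun hc => h0 (by rw [hc, map_zero]; exact Ideal.zero_mem _)).map _)
  have hmR : maximalIdeal R = ⊥ := by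
    rw [← Groth.Agent.S0538.result (X.presheaf.stalk y) R, hmO, Ideal.map_bot]
  have hRf : IsField R := IsLocalRing.isField_iff_maximalIdeal_eq.2 hmR
  letI : Field R := hRf.toField
  letI : Algebra K R := ((algebraMap (X.presheaf.stalk y) R).comp (algebraMap K (X.presheaf.stalk y))).toAlgebra
  let ρ : R ≃+* ResidueField R := RingEquiv.ofBijective (residue R)
    ⟨(RingHom.injective_iff_ker_eq_bot _).2 ((IsLocalRing.ker_residue (R := R)).trans hmR), residue_surjective⟩
  haveI : IsSepClosed R := EtCdFun.isSepClosed_of_equiv ρ.symm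
  haveI : Algebra.IsAlgebraic K R := by
    haveI : Algebra.IsSeparable (ResidueField (X.presheaf.stalk y)) (ResidueField R) :=
      (_root_.Hensel.IsStrictHenselization.isSepClosure (R := X.presheaf.stalk y) (S := R)).separable
    refine ⟨fun z => ?_⟩
    have hz : IsIntegral (ResidueField (X.presheaf.stalk y)) (residue R z) :=
      Algebra.IsSeparable.isIntegral _ _
    have hsurj : Function.Surjective ((residue (X.presheaf.stalk y)).comp (algebraMap K (X.presheaf.stalk y))) :=
      residue_surjective.comp hKO.2
    obtain ⟨p, hp, hpz⟩ := hz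
    obtain ⟨q, hq, -, hqm⟩ := Polynomial.lifts_and_degree_eq_and_monic
      (f := (residue (X.presheaf.stalk y)).comp (algebraMap K (X.presheaf.stalk y)))
      ((Polynomial.mem_lifts p).2 (Polynomial.map_surjective _ hsurj p)) hp
    refine IsIntegral.isAlgebraic ⟨q, hqm, ρ.injective ?_⟩
    rw [map_zero, ← hpz, ← hq, Polynomial.eval₂_map]
    exact (Polynomial.hom_eval₂ q (algebraMap K R) ρ.toRingHom z).trans rfl
  have hspec : Hens2.specOf X y R = Spec.map (CommRingCat.ofHom (algebraMap K R)) := by
    show Spec.map (CommRingCat.ofHom (algebraMap (X.presheaf.stalk y) R)) ≫ X.fromSpecStalk y = _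
    rw [Spec.fromSpecStalk_eq']
    exact (Spec.map_comp _ _).symm
  refine EtCdp5.isZero_stalk_of_eq (EtFound.cpt R ≫ Hens2.specOf X y R) ξ ?_ ?_
  · rw [hy, Scheme.Hom.comp_apply]
    exact Subsingleton.elim (α := Spec (CommRingCat.of K)) _ _
  have hbij := BcQStalk5.bijective_chi (h := Hens2.specOf X y R) π D G b
  let P : pullback (Hens2.specOf X y R) π ≅ Spec (CommRingCat.of (R ⊗[K] L)) :=
    pullback.congrHom hspec rfl ≪≫ pullbackSpecIso K R L
  haveI := (EtCoh.pullPushAdj (pullback.snd (Hens2.specOf X y R) π)).left_adjoint_additive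
  have hv : VanAbove (pullback (Hens2.specOf X y R) π) ℓ 1 :=
    vanAbove_of_finite P.hom (hfib R)
  exact @AddCommGrpCat.isZero_of_subsingleton _ (@Function.Injective.subsingleton _ _ _ hbij.1
    (hv _ a (killed_map (EtCoh.pull _) G _ hG) b (by omega)))

/-- Adjoining a variable raises the cohomological dimension by at most one. -/
theorem vd_RF {ℓ : ℕ} (hℓ : ℓ.Prime) (K : Type u) [Field K] {e : ℕ} (h : Vd ℓ K e) : Vd ℓ (RF K) (e + 1) :=
  vd_step K (RF K) (fun R _ _ _ _ => vanAbove_tensor_RF K R hℓ) h

end Groth.Agent.FieldCd
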